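import Mathlib.RingTheory.AdjoinRoot
import Mathlib.RingTheory.Etale.StandardEtale
import Mathlib.RingTheory.Finiteness.ModuleFinitePresentation
import Mathlib.RingTheory.Flat.FaithfullyFlat.Algebra
import Mathlib.Algebra.Polynomial.Div
import Mathlib.RingTheory.LocalRing.ResidueField.Ideal
import Mathlib.RingTheory.Localization.Away.Basic

/-!
Splitting algebras and finite flat covers of standard etale algebras.
-/

set_option autoImplicit false
set_option linter.style.haveILetI false
universe u

open Polynomial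
open scoped TensorProduct

namespace Groth.Agent.SplitAlg

/-- A monic polynomial splits over a finite free faithfully flat algebra. -/
theorem exists_split : ∀ (n : ℕ) (B : Type u) [CommRing B] (f : B[X]), f.Monic → f.natDegree = n →
    ∃ (S : Type u) (_ : CommRing S) (_ : Algebra B S), Module.Finite B S ∧ Module.Free B S ∧
      Module.FaithfullyFlat B S ∧ ∃ a : Fin n → S, f.map (algebraMap B S) = ∏ i, (X - C (a i)) := by
  intro n
  induction n with
  | zero =>
    intro B _ f hf hn
    exact ⟨B, inferInstance, inferInstance, inferInstance, inferInstance, inferInstance, Fin.elim0, by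
      rw [hf.natDegree_eq_zero.1 hn]; simp⟩
  | succ n ih =>
    intro B _ f hf hn
    haveI : Nontrivial B := by
      by_contra h
      rw [not_nontrivial_iff_subsingleton] at h
      rw [Subsingleton.elim f 0, natDegree_zero] at hn
      exact Nat.succ_ne_zero n hn.symm
    let R₁ := AdjoinRoot f
    haveI : Module.Free B R₁ := Module.Free.of_basis (AdjoinRoot.powerBasis' hf).basis
    haveI : Module.Finite B R₁ := Module.Finite.of_basis (AdjoinRoot.powerBasis' hf).basis
    haveI : Nontrivial R₁ := by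
      haveI : Nonempty (Fin (AdjoinRoot.powerBasis' hf).dim) :=
        ⟨⟨0, by rw [AdjoinRoot.powerBasis'_dim, hn]; omega⟩⟩
      exact (AdjoinRoot.powerBasis' hf).basis.repr.toEquiv.nontrivial
    haveI : Module.FaithfullyFlat B R₁ := inferInstance
    have hroot : (f.map (algebraMap B R₁)).IsRoot (AdjoinRoot.root f) := by
      rw [AdjoinRoot.algebraMap_eq]
      exact AdjoinRoot.isRoot_root f
    set f₁ := f.map (algebraMap B R₁) /ₘ (X - C (AdjoinRoot.root f))
    have hmul : (X - C (AdjoinRoot.root f)) * f₁ = f.map (algebraMap B R₁) := mul_divByMonic_eq_iff_isRoot.2 hroot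
    have hf₁ : f₁.Monic := (monic_X_sub_C _).of_mul_monic_left (by rw [hmul]; exact hf.map _)
    have hn₁ : f₁.natDegree = n := by
      have h := congrArg natDegree hmul
      rw [(monic_X_sub_C _).natDegree_mul hf₁, natDegree_X_sub_C, hf.natDegree_map, hn] at h
      omega
    obtain ⟨S, _, _, _, _, _, a, ha⟩ := ih R₁ f₁ hf₁ hn₁
    letI : Algebra B S := ((algebraMap R₁ S).comp (algebraMap B R₁)).toAlgebra
    haveI : IsScalarTower B R₁ S := IsScalarTower.of_algebraMap_eq fun _ => rfl
    refine ⟨S, inferInstance, inferInstance, Module.Finite.trans R₁ S, Module.Free.trans (S := R₁),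
      Module.FaithfullyFlat.trans B R₁ S, Fin.cons (algebraMap R₁ S (AdjoinRoot.root f)) a, ?_⟩
    rw [IsScalarTower.algebraMap_eq B R₁ S, ← Polynomial.map_map, ← hmul, Polynomial.map_mul, ha, Fin.prod_univ_succ]
    simp

theorem exists_field_pair {R K₁ K₂ : Type u} [CommRing R] [Field K₁] [Field K₂] [Algebra R K₁] [Algebra R K₂]
    (h : RingHom.ker (algebraMap R K₁) = RingHom.ker (algebraMap R K₂)) :
    ∃ (L : Type u) (_ : Field L) (_ : Algebra R L), Nonempty (K₁ →ₐ[R] L) ∧ Nonempty (K₂ →ₐ[R] L) := by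
  haveI : (RingHom.ker (algebraMap R K₁)).IsPrime := RingHom.ker_isPrime _
  set p := RingHom.ker (algebraMap R K₁)
  let f₁ : p.ResidueField →+* K₁ := Ideal.ResidueField.lift _ (algebraMap R K₁) le_rfl fun x hx =>
    IsUnit.mk0 _ fun h0 => hx (RingHom.mem_ker.2 h0)
  let f₂ : p.ResidueField →+* K₂ := Ideal.ResidueField.lift _ (algebraMap R K₂) h.le fun x hx =>
    IsUnit.mk0 _ fun h0 => hx (h.ge (RingHom.mem_ker.2 h0))
  letI := f₁.toAlgebra
  letI := f₂.toAlgebra
  haveI : IsScalarTower R p.ResidueField K₁ := IsScalarTower.of_algebraMap_eq fun x => by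
    symm; exact Ideal.ResidueField.lift_algebraMap _ _ _ _ _
  haveI : IsScalarTower R p.ResidueField K₂ := IsScalarTower.of_algebraMap_eq fun x => by
    symm; exact Ideal.ResidueField.lift_algebraMap _ _ _ _ _
  haveI : Nontrivial (K₁ ⊗[p.ResidueField] K₂) :=
    (Module.FaithfullyFlat.nontrivial_tensorProduct_iff_right _ _).2 inferInstance
  obtain ⟨m, hm⟩ := Ideal.exists_maximal (K₁ ⊗[p.ResidueField] K₂)
  letI := Ideal.Quotient.field m
  exact ⟨(K₁ ⊗[p.ResidueField] K₂) ⧸ m, inferInstance, inferInstance,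
    ⟨((Ideal.Quotient.mkₐ p.ResidueField m).comp Algebra.TensorProduct.includeLeft).restrictScalars R⟩,
    ⟨((Ideal.Quotient.mkₐ p.ResidueField m).comp Algebra.TensorProduct.includeRight).restrictScalars R⟩⟩

/-- Standard etale algebras are dominated by finite free algebras near every point. -/
theorem exists_cover (R S : Type u) [CommRing R] [CommRing S] [Algebra R S] [Algebra.IsStandardEtale R S] :
    ∃ (S' : Type u) (_ : CommRing S') (_ : Algebra R S'), Module.Finite R S' ∧ Module.Free R S' ∧
      Module.FaithfullyFlat R S' ∧ ∀ (q : Ideal S) [q.IsPrime] (q' : Ideal S') [q'.IsPrime],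
        q'.under R = q.under R → ∃ (g' : S') (_ : g' ∉ q') (φ : S →ₐ[R] Localization.Away g'),
          (q'.map (algebraMap S' (Localization.Away g'))).comap φ = q := by
  obtain ⟨P⟩ := Algebra.IsStandardEtale.nonempty_standardEtalePresentation (R := R) (S := S)
  obtain ⟨S', _, _, h1, h2, h3, a, ha⟩ := exists_split P.f.natDegree R P.f P.monic_f rfl
  refine ⟨S', inferInstance, inferInstance, h1, h2, h3, fun q _ q' _ hqq => ?_⟩
  obtain ⟨L, _, _, ⟨ι₁⟩, ⟨ι₂⟩⟩ := exists_field_pair (R := R) (K₁ := q.ResidueField) (K₂ := q'.ResidueField) (by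
    rw [IsScalarTower.algebraMap_eq R S q.ResidueField, IsScalarTower.algebraMap_eq R S' q'.ResidueField,
      ← RingHom.comap_ker, ← RingHom.comap_ker, Ideal.ker_algebraMap_residueField, Ideal.ker_algebraMap_residueField]
    exact hqq.symm)
  let ψ₁ : S →ₐ[R] L := ι₁.comp (IsScalarTower.toAlgHom R S q.ResidueField)
  let ψ₂ : S' →ₐ[R] L := ι₂.comp (IsScalarTower.toAlgHom R S' q'.ResidueField)
  have hk₁ : RingHom.ker ψ₁.toRingHom = q := Ideal.ext fun x => by
    rw [RingHom.mem_ker]
    change ι₁ (algebraMap S q.ResidueField x) = 0 ↔ _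
    rw [map_eq_zero, Ideal.algebraMap_residueField_eq_zero]
  have hk₂ : RingHom.ker ψ₂.toRingHom = q' := Ideal.ext fun x => by
    rw [RingHom.mem_ker]
    change ι₂ (algebraMap S' q'.ResidueField x) = 0 ↔ _
    rw [map_eq_zero, Ideal.algebraMap_residueField_eq_zero]
  have hroot : ∏ i, (ψ₁ P.x - ψ₂ (a i)) = 0 := by
    have h := congrArg (Polynomial.eval₂ ψ₂.toRingHom (ψ₁ P.x)) ha
    rw [eval₂_map, eval₂_finsetProd, show ψ₂.toRingHom.comp (algebraMap R S') = algebraMap R L from ψ₂.comp_algebraMap,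
      ← aeval_def, aeval_algHom_apply, P.hasMap.1, map_zero] at h
    simpa using h.symm
  obtain ⟨i, -, hi⟩ := Finset.prod_eq_zero_iff.1 hroot
  rw [sub_eq_zero] at hi
  have hg : aeval (a i) P.g ∉ q' := fun hmem => by
    rw [← hk₂, RingHom.mem_ker] at hmem
    change ψ₂ (aeval (a i) P.g) = 0 at hmem
    rw [← aeval_algHom_apply, ← hi, aeval_algHom_apply] at hmem
    exact (P.hasMap.2.map ψ₁).ne_zero hmem
  have hf : aeval (a i) P.f = 0 := by
    have h := congrArg (Polynomial.eval (a i)) ha
    rw [eval_map, ← aeval_def, eval_prod, Finset.prod_eq_zero (Finset.mem_univ i) (by simp)] at h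
    exact h
  set g' := aeval (a i) P.g
  refine ⟨g', hg, ?_⟩
  let j : S' →ₐ[R] Localization.Away g' := IsScalarTower.toAlgHom R S' _
  have hmap : P.HasMap (j (a i)) := by
    refine ⟨by rw [aeval_algHom_apply, hf, map_zero], ?_⟩
    rw [aeval_algHom_apply]
    exact IsLocalization.Away.algebraMap_isUnit g'
  let e : P.Ring ≃ₐ[R] S := AlgEquiv.ofBijective (P.lift P.x P.hasMap) P.lift_bijective
  let ψ₂' : Localization.Away g' →ₐ[R] L := IsLocalization.liftAlgHom (M := Submonoid.powers g') (f := ψ₂) fun y => by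
    obtain ⟨_, k, rfl⟩ := y
    rw [map_pow]
    refine (IsUnit.mk0 _ fun h0 => hg ?_).pow k
    rw [← hk₂]
    exact RingHom.mem_ker.2 h0
  have hψ₂' : ∀ x, ψ₂' (algebraMap S' _ x) = ψ₂ x := fun x => IsLocalization.lift_eq _ x
  refine ⟨(P.lift (j (a i)) hmap).comp e.symm.toAlgHom, ?_⟩
  have hcomp : ψ₂'.comp ((P.lift (j (a i)) hmap).comp e.symm.toAlgHom) = ψ₁ := by
    have h : ψ₂'.comp (P.lift (j (a i)) hmap) = ψ₁.comp e.toAlgHom := by
      refine StandardEtalePair.hom_ext ?_
      simp only [AlgHom.comp_apply, StandardEtalePair.lift_X]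
      rw [show e.toAlgHom P.X = P.x from P.lift_X P.x P.hasMap, hi]
      exact hψ₂' (a i)
    rw [← AlgHom.comp_assoc, h, AlgHom.comp_assoc, AlgEquiv.comp_symm, AlgHom.comp_id]
  have hq' : q'.map (algebraMap S' (Localization.Away g')) = RingHom.ker ψ₂'.toRingHom := by
    rw [← IsLocalization.map_comap (Submonoid.powers g') (Localization.Away g') (RingHom.ker ψ₂'.toRingHom)]
    congr 1
    refine Ideal.ext fun x => ?_
    rw [Ideal.mem_comap, RingHom.mem_ker]
    change x ∈ q' ↔ ψ₂' (algebraMap S' _ x) = 0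
    rw [hψ₂', ← hk₂]
    rfl
  rw [hq', ← hk₁, ← hcomp]
  exact Ideal.ext fun x => Iff.rfl

end Groth.Agent.SplitAlg
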