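import Mathlib
import Groth.Agent.SplitAlg.Basic

/-!
A finite algebra becomes, after a finite free cover of the base, a quotient of a finite free
algebra whose spectrum is a union of sections.
-/

set_option autoImplicit false
set_option linter.style.haveILetI false
set_option backward.isDefEq.respectTransparency false
universe u

open Polynomial
open scoped TensorProduct

namespace Groth.Agent.SplitAlg

/-- `R[t₁,…,tₙ]/(P(t₁),…,P(tₙ))`, with its universal property. -/
theorem exists_root_algebra {R : Type u} [CommRing R] (P : R[X]) (hP : P.Monic) : ∀ n : ℕ,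
    ∃ (C : Type u) (_ : CommRing C) (_ : Algebra R C), Module.Finite R C ∧ Module.Free R C ∧
      ∃ t : Fin n → C, Algebra.adjoin R (Set.range t) = ⊤ ∧ (∀ i, aeval (t i) P = 0) ∧
        ∀ (D : Type u) [CommRing D] [Algebra R D] (d : Fin n → D), (∀ i, aeval (d i) P = 0) →
          ∃ φ : C →ₐ[R] D, ∀ i, φ (t i) = d i := by
  intro n
  induction n with
  | zero =>
    refine ⟨R, inferInstance, inferInstance, inferInstance, inferInstance, Fin.elim0, ?_,
      fun i => i.elim0, fun D _ _ d _ => ⟨Algebra.ofId R D, fun i => i.elim0⟩⟩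
    exact Subalgebra.ext fun x => ⟨fun _ => trivial, fun _ => Subalgebra.algebraMap_mem _ x⟩
  | succ n ih =>
    obtain ⟨C, _, _, _, _, t, hgen, hroot, hu⟩ := ih
    haveI : Module.Free R (AdjoinRoot P) := Module.Free.of_basis (AdjoinRoot.powerBasis' hP).basis
    haveI : Module.Finite R (AdjoinRoot P) := Module.Finite.of_basis (AdjoinRoot.powerBasis' hP).basis
    let iC : C →ₐ[R] AdjoinRoot P ⊗[R] C := Algebra.TensorProduct.includeRight
    let iA : AdjoinRoot P →ₐ[R] AdjoinRoot P ⊗[R] C := Algebra.TensorProduct.includeLeft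
    refine ⟨AdjoinRoot P ⊗[R] C, inferInstance, inferInstance, inferInstance, inferInstance,
      Fin.cons (iA (AdjoinRoot.root P)) (fun i => iC (t i)), ?_, ?_, ?_⟩
    · rw [eq_top_iff]
      intro x _
      induction x using TensorProduct.induction_on with
      | zero => exact zero_mem _
      | tmul a c =>
        rw [show a ⊗ₜ[R] c = iA a * iC c by simp [iA, iC]]
        refine mul_mem ?_ ?_
        · have h : (Algebra.adjoin R {AdjoinRoot.root P}).map iA ≤ Algebra.adjoin R
              (Set.range (Fin.cons (iA (AdjoinRoot.root P)) (fun i => iC (t i)))) := by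
            rw [AlgHom.map_adjoin, Set.image_singleton]
            exact Algebra.adjoin_mono (Set.singleton_subset_iff.2 ⟨0, rfl⟩)
          exact h ⟨a, AdjoinRoot.adjoinRoot_eq_top (R := R) ▸ Algebra.mem_top, rfl⟩
        · have h : (Algebra.adjoin R (Set.range t)).map iC ≤ Algebra.adjoin R
              (Set.range (Fin.cons (iA (AdjoinRoot.root P)) (fun i => iC (t i)))) := by
            rw [AlgHom.map_adjoin]
            exact Algebra.adjoin_mono (by rintro _ ⟨_, ⟨i, rfl⟩, rfl⟩; exact ⟨i.succ, rfl⟩)
          exact h ⟨c, hgen ▸ Algebra.mem_top, rfl⟩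
      | add a b ha hb => exact add_mem (ha trivial) (hb trivial)
    · intro i
      refine Fin.cases ?_ (fun i => ?_) i
      · rw [Fin.cons_zero, aeval_algHom_apply, AdjoinRoot.aeval_eq, AdjoinRoot.mk_self, map_zero]
      · rw [Fin.cons_succ, aeval_algHom_apply, hroot, map_zero]
    · intro D _ _ d hd
      obtain ⟨φ, hφ⟩ := hu D (fun i => d i.succ) (fun i => hd i.succ)
      refine ⟨Algebra.TensorProduct.lift (AdjoinRoot.liftAlgHom P (Algebra.ofId R D) (d 0) (hd 0)) φ
        fun _ _ => Commute.all _ _, fun i => ?_⟩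
      refine Fin.cases ?_ (fun i => ?_) i
      · simp [iA]
      · simp [iC, hφ]

/-- After a finite free cover, a finite algebra is a quotient of a finite free algebra covered by sections. -/
theorem exists_cover_sections {A B : Type u} [CommRing A] [CommRing B] [Algebra A B] [Module.Finite A B] :
    ∃ (A' : Type u) (_ : CommRing A') (_ : Algebra A A'), Module.Finite A A' ∧ Module.Free A A' ∧
      Module.FaithfullyFlat A A' ∧
      ∃ (C : Type u) (_ : CommRing C) (_ : Algebra A' C), Module.Finite A' C ∧ Module.Free A' C ∧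
        ∃ π : C →ₐ[A'] A' ⊗[A] B, Function.Surjective π ∧
          ∃ (m : ℕ) (ev : Fin m → (C →ₐ[A'] A')),
            ∀ q : Ideal C, q.IsPrime → ∃ j, RingHom.ker (ev j) ≤ q := by
  classical
  obtain ⟨s, hs⟩ := (Algebra.FiniteType.out : (⊤ : Subalgebra A B).FG)
  let bv : Fin s.card → B := fun i => (s.equivFin.symm i).1
  have hbv : Algebra.adjoin A (Set.range bv) = ⊤ := by
    rw [← hs]; congr 1
    ext x
    exact ⟨by rintro ⟨i, rfl⟩; exact (s.equivFin.symm i).2,
      fun hx => ⟨s.equivFin ⟨x, hx⟩, by simp [bv]⟩⟩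
  have hint : ∀ i, IsIntegral A (bv i) := fun i => IsIntegral.of_finite A (bv i)
  choose Pi hPim hPi using hint
  let P : A[X] := ∏ i, Pi i
  have hP : P.Monic := monic_prod_of_monic _ _ fun i _ => hPim i
  have hroot : ∀ i, aeval (bv i) P = 0 := fun i => by
    rw [map_prod]; exact Finset.prod_eq_zero (Finset.mem_univ i) (hPi i)
  obtain ⟨A', _, _, h1, h2, h3, a, ha⟩ := exists_split P.natDegree A P hP rfl
  let Q : A'[X] := P.map (algebraMap A A')
  obtain ⟨C, _, _, h4, h5, t, hgen, htroot, hu⟩ := exists_root_algebra Q (hP.map _) s.card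
  refine ⟨A', inferInstance, inferInstance, h1, h2, h3, C, inferInstance, inferInstance, h4, h5, ?_⟩
  let iB : B →ₐ[A] A' ⊗[A] B := Algebra.TensorProduct.includeRight
  obtain ⟨π, hπ⟩ := hu (A' ⊗[A] B) (fun i => iB (bv i)) fun i => by
    rw [aeval_map_algebraMap, aeval_algHom_apply, hroot, map_zero]
  refine ⟨π, ?_, ?_⟩
  · intro x
    induction x using TensorProduct.induction_on with
    | zero => exact ⟨0, map_zero _⟩
    | tmul c b =>
      have hb : (Algebra.adjoin A (Set.range bv)).map iB ≤ π.range.restrictScalars A := by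
        rw [AlgHom.map_adjoin, Algebra.adjoin_le_iff]
        rintro _ ⟨_, ⟨i, rfl⟩, rfl⟩
        exact ⟨t i, hπ i⟩
      obtain ⟨z, hz⟩ := hb ⟨b, hbv ▸ Algebra.mem_top, rfl⟩
      refine ⟨algebraMap A' C c * z, ?_⟩
      change π z = iB b at hz
      rw [map_mul, π.commutes, hz]
      simp [iB]
    | add u v hu hv =>
      obtain ⟨u', hu'⟩ := hu
      obtain ⟨v', hv'⟩ := hv
      exact ⟨u' + v', by rw [map_add, hu', hv']⟩
  · let σ : Fin (Fintype.card (Fin s.card → Fin P.natDegree)) → (Fin s.card → Fin P.natDegree) :=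
      (Fintype.equivFin _).symm
    have hex : ∀ j, ∃ φ : C →ₐ[A'] A', ∀ i, φ (t i) = a (σ j i) := fun j => hu A' _ fun i => by
      rw [show Q = ∏ i, (Polynomial.X - Polynomial.C (a i)) from ha, map_prod]
      exact Finset.prod_eq_zero (Finset.mem_univ (σ j i)) (by simp)
    choose ev hev using hex
    refine ⟨_, ev, fun q hq => ?_⟩
    have hmem : ∀ i, ∃ k, t i - algebraMap A' C (a k) ∈ q := fun i => by
      have h := htroot i
      rw [show Q = ∏ i, (Polynomial.X - Polynomial.C (a i)) from ha, map_prod] at h
      have : ∏ k, (t i - algebraMap A' C (a k)) ∈ q := by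
        rw [show (∏ k, (t i - algebraMap A' C (a k))) = 0 from (by simpa using h)]
        exact zero_mem _
      obtain ⟨k, -, hk⟩ := hq.prod_mem_iff.1 this
      exact ⟨k, hk⟩
    choose k hk using hmem
    refine ⟨Fintype.equivFin _ k, fun x hx => ?_⟩
    set j := Fintype.equivFin _ k
    have hj : σ j = k := Equiv.symm_apply_apply _ _
    have key : ∀ x : C, x - algebraMap A' C (ev j x) ∈ q := by
      intro x
      have hx : x ∈ Algebra.adjoin A' (Set.range t) := hgen ▸ Algebra.mem_top
      induction hx using Algebra.adjoin_induction with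
      | mem y hy =>
        obtain ⟨i, rfl⟩ := hy
        rw [hev, hj]; exact hk i
      | algebraMap r => rw [(ev j).commutes]; simp
      | add y z _ _ hy hz =>
        rw [map_add, map_add, add_sub_add_comm]; exact add_mem hy hz
      | mul y z _ _ hy hz =>
        rw [map_mul, map_mul,
          show y * z - algebraMap A' C (ev j y) * algebraMap A' C (ev j z) =
            (y - algebraMap A' C (ev j y)) * z + algebraMap A' C (ev j y) * (z - algebraMap A' C (ev j z)) by ring]
        exact add_mem (q.mul_mem_right _ hy) (q.mul_mem_left _ hz)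
    have := key x
    rwa [RingHom.mem_ker.1 hx, map_zero, sub_zero] at this

end Groth.Agent.SplitAlg
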